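import Cfsg.Agent.H358.Bs.Fix

/-!
# BS01 (S5733): the fixed point trick, main theorem (helper358)
-/

set_option autoImplicit false

namespace Cfsg.Agent.H358.Bs

open Cfsg.Agent.H847.Bs
open Cfsg.Agent.H851.Dg (nd nd_anti one_le_nd)
open scoped Classical

section Main

variable {G : Type*} [Group G] [Finite G]

/-- the weight -/
noncomputable def wt (H : Subgroup G) (y : G) : ℕ := if fp H y ≠ 1 then fp H y + 1 else 0

omit [Finite G] in
theorem wt_conj (H : Subgroup G) (g x : G) : wt H (g * x * g⁻¹) = wt H x := by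
  unfold wt
  rw [fp_conj]

omit [Finite G] in
theorem fp_le_wt (H : Subgroup G) (y : G) : fp H y ≤ 1 + wt H y := by
  unfold wt
  split_ifs with h <;> omega

omit [Finite G] in
theorem one_le_wt {H : Subgroup G} {y : G} (h : fp H y ≠ 1) : 1 ≤ wt H y := by
  unfold wt
  rw [if_pos h]
  omega

omit [Finite G] in
theorem sum_wt [Fintype G] (H : Subgroup G) : ∑ y, wt H y ≤ 4 * nd H := by
  have h1 : ∑ y, wt H y = ∑ y ∈ Finset.univ.filter (fun g : G => fp H g ≠ 1), (fp H y + 1) := by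
    rw [Finset.sum_filter]
    rfl
  rw [h1, Finset.sum_add_distrib, sum_bad, ← Finset.card_eq_sum_ones]
  have := card_bad_le' (K := H)
  omega

/-- `K₀` is transitive on the fixed points of `z` -/
theorem trans_of_sum {K₀ H : Subgroup G} {z : G} (hz : ∀ l ∈ K₀, z * l = l * z) [Fintype K₀]
    (h : ∑ l : K₀, fp H (z * l) < 2 * Nat.card K₀) {y₀ y : G ⧸ H} (h₀ : z • y₀ = y₀) (hy : z • y = y) :
    ∃ k : K₀, k • y₀ = y := by
  -- the action on the fixed points
  let Φ : SubMulAction K₀ (G ⧸ H) :=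
    { carrier := {x | z • x = x}
      smul_mem' := fun k x hx => by
        show z • ((k : G) • x) = (k : G) • x
        have hx' : z • x = x := hx
        rw [← mul_smul, hz k k.2, mul_smul, hx'] }
  have := Fintype.ofFinite Φ
  have h1 := MulAction.sum_card_fixedBy_eq_card_orbits_mul_card_group K₀ Φ
  have h2 : ∀ l : K₀, Fintype.card (MulAction.fixedBy Φ l) ≤ fp H (z * l) := by
    intro l
    rw [← Nat.card_eq_fintype_card]
    refine Nat.card_le_card_of_injective (fun x : MulAction.fixedBy Φ l =>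
      (⟨x.1.1, ?_⟩ : {x : G ⧸ H // (z * (l : G)) • x = x})) fun a b hab => ?_
    · have h3 : (l : G) • (x.1 : G ⧸ H) = x.1 := congrArg Subtype.val x.2
      have h4 : z • (x.1 : G ⧸ H) = x.1 := x.1.2
      rw [mul_smul, h3, h4]
    · exact Subtype.ext (Subtype.ext (Subtype.mk.inj hab))
  have h3 := Finset.sum_le_sum fun (l : K₀) (_ : l ∈ Finset.univ) => h2 l
  rw [h1] at h3
  rw [Nat.card_eq_fintype_card] at h
  have h4 : Fintype.card (Quotient (MulAction.orbitRel K₀ Φ)) ≤ 1 := by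
    by_contra hcon
    push Not at hcon
    have := Nat.mul_le_mul_right (Fintype.card K₀) hcon
    have h5 : (1 + 1) * Fintype.card K₀ = 2 * Fintype.card K₀ := by ring
    simp only [Nat.succ_eq_add_one] at this
    omega
  have h5 := Fintype.card_le_one_iff.1 h4 (Quotient.mk'' (⟨y, hy⟩ : Φ)) (Quotient.mk'' (⟨y₀, h₀⟩ : Φ))
  obtain ⟨k, hk⟩ := Quotient.exact' h5
  exact ⟨k, congrArg Subtype.val hk⟩

/-- **The fixed point trick**, minimal hypotheses. -/
theorem trick' {M K₀ : Subgroup G} {E : Set G} {c ε : ℝ} (hε : 0 < ε)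
    (hEK : ∀ y ∈ E, ∀ k ∈ K₀, y * k ∈ E) (hTI : ∀ g, ∀ x ∈ E, g * x * g⁻¹ ∈ E → g ∈ M)
    (hz : ∀ y ∈ E, ∃ z, ∃ k ∈ K₀, (∀ l ∈ K₀, z * l = l * z) ∧ y = z * k)
    (hcard : c * (Nat.card M : ℝ) ≤ Nat.card E) (hRB : RB ε K₀) (H : Subgroup G)
    (hH : 4 * (nd H : ℝ) < c * min 1 ε * Nat.card G) : ∃ g : G, ∀ k ∈ K₀, g * k * g⁻¹ ∈ H := by
  have := Fintype.ofFinite G
  set m : ℝ := min 1 ε with hm
  have hm0 : 0 < m := lt_min one_pos hε
  have hm1 : m ≤ 1 := min_le_left _ _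
  have hmε : m ≤ ε := min_le_right _ _
  have hMpos : (0 : ℝ) < Nat.card M := by exact_mod_cast Nat.card_pos
  have hGpos : (0 : ℝ) < Nat.card G := by exact_mod_cast Nat.card_pos
  have hKpos : (0 : ℝ) < Nat.card K₀ := by exact_mod_cast Nat.card_pos
  set A := Finset.univ.filter (· ∈ E) with hA
  have hAE : (Nat.card E : ℝ) = A.card := by
    rw [Nat.card_eq_fintype_card, hA]
    norm_cast
    exact Fintype.card_subtype _
  -- the sum of the weights over `E`
  have h1 : Nat.card G * ∑ x ∈ A, wt H x ≤ Nat.card M * (4 * nd H) :=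
    (sum_union_le hTI (wt H) (wt_conj H)).trans (Nat.mul_le_mul_left _ (sum_wt H))
  have h2 : ((∑ x ∈ A, wt H x : ℕ) : ℝ) < m * A.card := by
    have h3 : (Nat.card G : ℝ) * ((∑ x ∈ A, wt H x : ℕ) : ℝ) ≤ Nat.card M * (4 * nd H) := by exact_mod_cast h1
    have h4 : (Nat.card M : ℝ) * (4 * nd H) < Nat.card M * (c * m * Nat.card G) := mul_lt_mul_of_pos_left hH hMpos
    have h5 : (Nat.card G : ℝ) * ((∑ x ∈ A, wt H x : ℕ) : ℝ) < Nat.card G * (m * (c * Nat.card M)) := by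
      calc (Nat.card G : ℝ) * ((∑ x ∈ A, wt H x : ℕ) : ℝ) < Nat.card M * (c * m * Nat.card G) := h3.trans_lt h4
        _ = _ := by ring
    have h6 := lt_of_mul_lt_mul_left h5 hGpos.le
    refine h6.trans_le ?_
    rw [← hAE]
    exact mul_le_mul_of_nonneg_left hcard hm0.le
  -- a good coset
  have h3 : ∑ y ∈ A, ∑ k : K₀, wt H (y * k) = Nat.card K₀ * ∑ y ∈ A, wt H y := by
    rw [Finset.sum_comm, Nat.card_eq_fintype_card, ← Finset.card_univ, ← smul_eq_mul, ← Finset.sum_const]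
    refine Finset.sum_congr rfl fun k _ => ?_
    refine Finset.sum_bij' (fun y _ => y * (k : G)) (fun y _ => y * (k : G)⁻¹) ?_ ?_ ?_ ?_ ?_
    · intro y hy
      rw [hA, Finset.mem_filter] at hy ⊢
      exact ⟨Finset.mem_univ _, hEK y hy.2 k k.2⟩
    · intro y hy
      rw [hA, Finset.mem_filter] at hy ⊢
      exact ⟨Finset.mem_univ _, hEK y hy.2 _ (K₀.inv_mem k.2)⟩
    · intro y _
      exact mul_inv_cancel_right _ _
    · intro y _
      exact inv_mul_cancel_right _ _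
    · intro y _
      rfl
  obtain ⟨y, hyA, hy⟩ : ∃ y ∈ A, ((∑ k : K₀, wt H (y * k) : ℕ) : ℝ) < m * Nat.card K₀ := by
    refine Finset.exists_lt_of_sum_lt ?_
    rw [Finset.sum_const, nsmul_eq_mul, ← Nat.cast_sum, h3, Nat.cast_mul]
    calc (Nat.card K₀ : ℝ) * ((∑ y ∈ A, wt H y : ℕ) : ℝ) < Nat.card K₀ * (m * A.card) :=
          mul_lt_mul_of_pos_left h2 hKpos
      _ = _ := by ring
  have hyE : y ∈ E := (Finset.mem_filter.1 hyA).2
  obtain ⟨z, k₀, hk₀, hzK, rfl⟩ := hz y hyE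
  have h4 : ((∑ l : K₀, wt H (z * l) : ℕ) : ℝ) < m * Nat.card K₀ := by
    have h5 : ∑ l : K₀, wt H (z * l) = ∑ k : K₀, wt H (z * k₀ * k) := by
      refine (Fintype.sum_equiv (Equiv.mulLeft (⟨k₀, hk₀⟩ : K₀)) _ _ fun k => ?_).symm
      rw [Equiv.coe_mulLeft, Subgroup.coe_mul, mul_assoc]
    rwa [h5]
  -- the bad elements of `K₀`
  have h5 : (Finset.univ.filter fun l : K₀ => fp H (z * l) ≠ 1).card ≤ ∑ l : K₀, wt H (z * l) := by
    rw [Finset.card_eq_sum_ones, Finset.sum_filter]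
    refine Finset.sum_le_sum fun l _ => ?_
    split_ifs with h
    · exact one_le_wt h
    · exact Nat.zero_le _
  have h5' : ((Finset.univ.filter fun l : K₀ => fp H (z * l) ≠ 1).card : ℝ) < m * Nat.card K₀ :=
    lt_of_le_of_lt (by exact_mod_cast h5) h4
  obtain ⟨l₀, hl₀⟩ : ∃ l₀ : K₀, fp H (z * l₀) = 1 := by
    by_contra hcon
    push Not at hcon
    rw [Finset.filter_true_of_mem (fun l _ => hcon l), Finset.card_univ, ← Nat.card_eq_fintype_card] at h5'
    nlinarith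
  obtain ⟨y₀, hy₀⟩ := exists_fixed_of_fp_one hl₀
  have hcomm : ∀ l : K₀, z * (z * l) = z * l * z ∧ (l : G) * (z * l) = z * l * l := by
    intro l
    refine ⟨?_, ?_⟩
    · rw [mul_assoc, hzK l l.2]
    · rw [← mul_assoc, ← hzK l l.2]
  have hzy₀ : z • y₀ = y₀ := smul_eq_of_fp_one hl₀ (hcomm l₀).1 hy₀
  have h6 : ∑ l : K₀, fp H (z * l) < 2 * Nat.card K₀ := by
    have h7 : ∑ l : K₀, fp H (z * l) ≤ ∑ l : K₀, (1 + wt H (z * l)) :=
      Finset.sum_le_sum fun l _ => fp_le_wt H _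
    rw [Finset.sum_add_distrib, ← Finset.card_eq_sum_ones, Finset.card_univ, ← Nat.card_eq_fintype_card] at h7
    have h8 : ((∑ l : K₀, wt H (z * l) : ℕ) : ℝ) < Nat.card K₀ := by nlinarith
    have h9 : ∑ l : K₀, wt H (z * l) < Nat.card K₀ := by exact_mod_cast h8
    omega
  -- the stabiliser
  have hS : MulAction.stabilizer K₀ y₀ = ⊤ := by
    by_contra hne
    have h7 := hRB _ hne
    have h8 : nd (MulAction.stabilizer K₀ y₀) ≤ (Finset.univ.filter fun l : K₀ => fp H (z * l) ≠ 1).card := by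
      unfold nd
      rw [Nat.card_eq_fintype_card, Fintype.card_subtype]
      refine Finset.card_le_card fun l hl => ?_
      rw [Finset.mem_filter] at hl ⊢
      refine ⟨Finset.mem_univ _, fun h1 => ?_⟩
      obtain ⟨y₁, hy₁⟩ := exists_fixed_of_fp_one h1
      have hz1 : z • y₁ = y₁ := smul_eq_of_fp_one h1 (hcomm l).1 hy₁
      have hl1 : (l : G) • y₁ = y₁ := smul_eq_of_fp_one h1 (hcomm l).2 hy₁
      obtain ⟨k, hk⟩ := trans_of_sum hzK h6 hzy₀ hz1
      refine hl.2 k⁻¹ ?_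
      rw [MulAction.mem_stabilizer_iff, inv_inv, mul_smul, mul_smul, hk]
      have hl2 : l • y₁ = y₁ := hl1
      rw [hl2, ← hk, inv_smul_smul]
    have h9 : (nd (MulAction.stabilizer K₀ y₀) : ℝ) ≤
      (Finset.univ.filter fun l : K₀ => fp H (z * l) ≠ 1).card := by exact_mod_cast h8
    nlinarith
  revert hS
  induction y₀ using QuotientGroup.induction_on with
  | H a =>
    intro hS
    refine ⟨a⁻¹, fun k hk => ?_⟩
    have h7 : (⟨k, hk⟩ : K₀) ∈ MulAction.stabilizer K₀ (QuotientGroup.mk a : G ⧸ H) := by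
      rw [hS]; exact Subgroup.mem_top _
    rw [inv_inv]
    exact smul_mk_eq_iff.1 h7

set_option linter.unusedVariables false in
/-- **The fixed point trick.** -/
theorem trick {M K₀ : Subgroup G} {E : Set G} {c ε : ℝ} (hc : 0 < c) (hε : 0 < ε) (hKM : K₀ ≤ M) (hEM : E ⊆ M)
    (hEK : ∀ y ∈ E, ∀ k ∈ K₀, y * k ∈ E) (hTI : ∀ g, ∀ x ∈ E, g * x * g⁻¹ ∈ E → g ∈ M)
    (hz : ∀ y ∈ E, ∃ z, ∃ k ∈ K₀, (∀ l ∈ K₀, z * l = l * z) ∧ y = z * k)
    (hcard : c * (Nat.card M : ℝ) ≤ Nat.card E) (hRB : RB ε K₀) (H : Subgroup G)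
    (hH : 4 * (nd H : ℝ) < c * min 1 ε * Nat.card G) : ∃ g : G, ∀ k ∈ K₀, g * k * g⁻¹ ∈ H :=
  trick' hε hEK hTI hz hcard hRB H hH

end Main

end Cfsg.Agent.H358.Bs
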