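import Cfsg.Agent.H358.Bs.Trick

/-!
# BS01 (S5733): `RB` and the trick inside an ambient group (helper358)

* `RB.mono`, `RB.congr`, `RB.of_card_le`, `RB.of_surjective`, `RB.of_center`, `RB.of_rowB`;
* `ndIn G H` : the number of elements of `G` without a conjugate (under `G`) in `H`, `G`, `H` subgroups of an ambient
  group (`ndV` for `V ≃ₗ[F] V`); `nd_subgroupOf`;
* `card_noncent_le` : at most `2 ndIn G H` elements `x` of `G` have their centraliser `C_G(x)` in no conjugate of `H`;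
* `card_union_in`, `trick_in`, `trickV`.
-/

set_option autoImplicit false

namespace Cfsg.Agent.H358.Bs

open Cfsg.Agent.H847.Bs
open Cfsg.Agent.H851.Dg (nd nd_anti one_le_nd nd_comap_equiv RowB)
open scoped Classical commutatorElement

section RB

variable {G G' : Type*} [Group G] [Group G'] {c c' : ℝ}

theorem RB.mono (h : RB c G) (hc : c' ≤ c) : RB c' G := fun K hK =>
  (mul_le_mul_of_nonneg_right hc (Nat.cast_nonneg _)).trans (h K hK)

/-- transport along a surjective homomorphism -/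
theorem nd_comap [Finite G] (f : G →* G') (hf : Function.Surjective f) (K : Subgroup G') :
    nd (K.comap f) = Nat.card f.ker * nd K := by
  have : Finite G' := Finite.of_surjective f hf
  have h1 : ∀ x : G, (∀ g : G, g * x * g⁻¹ ∉ K.comap f) ↔ ∀ g : G', g * f x * g⁻¹ ∉ K := by
    intro x
    constructor
    · intro h g hg
      obtain ⟨g, rfl⟩ := hf g
      refine h g ?_
      rw [Subgroup.mem_comap, map_mul, map_mul, map_inv]
      exact hg
    · intro h g hg
      rw [Subgroup.mem_comap, map_mul, map_mul, map_inv] at hg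
      exact h _ hg
  have e : {x : G // ∀ g : G, g * x * g⁻¹ ∉ K.comap f} ≃ f.ker × {x : G' // ∀ g : G', g * x * g⁻¹ ∉ K} := by
    let s : G' → G := Function.surjInv hf
    have hs : ∀ y, f (s y) = y := Function.surjInv_eq hf
    exact
      { toFun := fun x => (⟨x.1 * (s (f x.1))⁻¹, by rw [MonoidHom.mem_ker, map_mul, map_inv, hs, mul_inv_cancel]⟩,
          ⟨f x.1, (h1 x.1).1 x.2⟩)
        invFun := fun y => ⟨y.1.1 * s y.2.1, (h1 _).2 (by
          rw [map_mul, MonoidHom.mem_ker.1 y.1.2, one_mul, hs]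
          exact y.2.2)⟩
        left_inv := fun x => Subtype.ext (inv_mul_cancel_right _ _)
        right_inv := fun y => by
          have h2 : f (y.1.1 * s y.2.1) = y.2.1 := by rw [map_mul, MonoidHom.mem_ker.1 y.1.2, one_mul, hs]
          refine Prod.ext (Subtype.ext ?_) (Subtype.ext h2)
          show y.1.1 * s y.2.1 * (s (f (y.1.1 * s y.2.1)))⁻¹ = y.1.1
          rw [h2, mul_inv_cancel_right] }
  unfold nd
  rw [Nat.card_congr e, Nat.card_prod]

theorem card_of_surjective [Finite G] (f : G →* G') (hf : Function.Surjective f) :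
    Nat.card G = Nat.card f.ker * Nat.card G' := by
  rw [← Subgroup.card_mul_index f.ker, Subgroup.index_ker, f.range_eq_top_of_surjective hf, Subgroup.card_top]

theorem RB.of_surjective [Finite G] (f : G →* G') (hf : Function.Surjective f) (h : RB c G) : RB c G' := by
  intro K hK
  have h1 : K.comap f ≠ ⊤ := by
    intro h2
    apply hK
    rw [eq_top_iff]
    intro y _
    obtain ⟨x, rfl⟩ := hf y
    have : x ∈ K.comap f := by rw [h2]; exact Subgroup.mem_top _
    exact this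
  have h2 := h _ h1
  rw [nd_comap f hf, card_of_surjective f hf, Nat.cast_mul, Nat.cast_mul] at h2
  have h3 : (0 : ℝ) < Nat.card f.ker := by exact_mod_cast Nat.card_pos
  have h4 : (Nat.card f.ker : ℝ) * (c * Nat.card G') ≤ Nat.card f.ker * nd K := by
    calc (Nat.card f.ker : ℝ) * (c * Nat.card G') = c * (Nat.card f.ker * Nat.card G') := by ring
      _ ≤ _ := h2
  exact le_of_mul_le_mul_left h4 h3

theorem RB.congr [Finite G] (e : G ≃* G') (h : RB c G) : RB c G' :=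
  RB.of_surjective e.toMonoidHom e.surjective h

/-- proper subgroups `K` with `nd` bounded through a quotient -/
theorem RB.of_quotient [Finite G] (f : G →* G') (hf : Function.Surjective f) (h : RB c G')
    (hK : ∀ K : Subgroup G, K ⊔ f.ker = ⊤ → K = ⊤) : RB c G := by
  have : Finite G' := Finite.of_surjective f hf
  intro K hK1
  have h1 : (K ⊔ f.ker).map f ≠ ⊤ := by
    intro h2
    apply hK1
    apply hK
    rw [eq_top_iff]
    intro x _
    have h3 : f x ∈ (K ⊔ f.ker).map f := by rw [h2]; exact Subgroup.mem_top _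
    obtain ⟨y, hy, hxy⟩ := h3
    have h4 : y⁻¹ * x ∈ f.ker := by rw [MonoidHom.mem_ker, map_mul, map_inv, hxy, inv_mul_cancel]
    have h5 : x = y * (y⁻¹ * x) := by group
    rw [h5]
    exact mul_mem hy ((le_sup_right : f.ker ≤ K ⊔ f.ker) h4)
  have h2 := h _ h1
  have h3 : K ≤ ((K ⊔ f.ker).map f).comap f := le_sup_left.trans (Subgroup.le_comap_map _ _)
  have h4 := nd_anti h3
  rw [nd_comap f hf] at h4
  rw [card_of_surjective f hf, Nat.cast_mul]
  have h5 : ((Nat.card f.ker * nd ((K ⊔ f.ker).map f) : ℕ) : ℝ) ≤ nd K := by exact_mod_cast h4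
  rw [Nat.cast_mul] at h5
  have h6 : (Nat.card f.ker : ℝ) * (c * Nat.card G') ≤ Nat.card f.ker * nd ((K ⊔ f.ker).map f) :=
    mul_le_mul_of_nonneg_left h2 (Nat.cast_nonneg _)
  calc c * (Nat.card f.ker * Nat.card G') = (Nat.card f.ker : ℝ) * (c * Nat.card G') := by ring
    _ ≤ _ := h6.trans h5

/-- perfect groups: central quotients -/
theorem RB.of_center [Finite G] (hG : commutator G = ⊤) (h : RB c (G ⧸ Subgroup.center G)) : RB c G := by
  refine RB.of_quotient (QuotientGroup.mk' _) (QuotientGroup.mk'_surjective _) h fun K hK => ?_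
  rw [QuotientGroup.ker_mk'] at hK
  rw [eq_top_iff, ← hG]
  -- commutators of elements of `K Z` are in `K`
  rw [commutator_def, Subgroup.commutator_le]
  have h1 : ∀ x : G, ∃ k ∈ K, ∃ z ∈ Subgroup.center G, k * z = x := by
    intro x
    have h0 : x ∈ K ⊔ Subgroup.center G := by rw [hK]; exact Subgroup.mem_top x
    exact Subgroup.mem_sup_of_normal_right.1 h0
  intro x _ y _
  obtain ⟨k, hk, z, hz, rfl⟩ := h1 x
  obtain ⟨l, hl, w, hw, rfl⟩ := h1 y
  have hz' := Subgroup.mem_center_iff.1 hz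
  have hw' := Subgroup.mem_center_iff.1 hw
  have h2 : ⁅k * z, l * w⁆ = ⁅k, l⁆ := by
    rw [commutatorElement_def, commutatorElement_def, mul_inv_rev, mul_inv_rev]
    have e1 : k * z * (l * w) = k * l * (z * w) := by
      rw [mul_assoc, ← mul_assoc z, ← hz' l]
      simp only [mul_assoc]
    have e2 : z⁻¹ * k⁻¹ * (w⁻¹ * l⁻¹) = (z * w)⁻¹ * (k⁻¹ * l⁻¹) := by
      have e3 : k⁻¹ * w⁻¹ = w⁻¹ * k⁻¹ := by
        rw [← mul_inv_rev, ← mul_inv_rev, hw' k]
      have e4 : z * w = w * z := (hw' z)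
      calc z⁻¹ * k⁻¹ * (w⁻¹ * l⁻¹) = z⁻¹ * (k⁻¹ * w⁻¹) * l⁻¹ := by simp only [mul_assoc]
        _ = z⁻¹ * w⁻¹ * (k⁻¹ * l⁻¹) := by rw [e3]; simp only [mul_assoc]
        _ = (w * z)⁻¹ * (k⁻¹ * l⁻¹) := by rw [mul_inv_rev w z]
        _ = _ := by rw [← e4]
    rw [e1, mul_assoc _ (z⁻¹ * k⁻¹), e2]
    group
  rw [h2]
  exact Subgroup.commutator_mem_commutator hk hl |> fun h3 => by
    have h4 : ⁅K, K⁆ ≤ K := Subgroup.commutator_le.2 fun a ha b hb => by
      rw [commutatorElement_def]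
      exact K.mul_mem (K.mul_mem (K.mul_mem ha hb) (K.inv_mem ha)) (K.inv_mem hb)
    exact h4 h3

theorem RB.of_card_le [Finite G] {N : ℕ} (h : Nat.card G ≤ N) : RB (1 / N : ℝ) G := by
  intro K hK
  have h1 : (1 : ℝ) ≤ nd K := by exact_mod_cast one_le_nd hK
  have h2 : (0 : ℝ) < N := by
    have : 0 < Nat.card G := Nat.card_pos
    exact_mod_cast (by omega : 0 < N)
  refine le_trans ?_ h1
  rw [one_div, inv_mul_le_iff₀ h2, mul_one]
  exact_mod_cast h

theorem RB.of_rowB [Finite G] (h : RowB c G) : RB c G := by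
  intro K hK
  obtain ⟨M, hM, hKM⟩ := (eq_top_or_exists_le_coatom K).resolve_left hK
  refine (h M hM).trans ?_
  exact_mod_cast nd_anti hKM

end RB

section Amb

variable {Γ : Type*} [Group Γ] (G H : Subgroup Γ)

/-- the number of elements of `G` without a conjugate (under `G`) in `H` -/
noncomputable def ndIn : ℕ := Nat.card {x : Γ // x ∈ G ∧ ∀ g ∈ G, g * x * g⁻¹ ∉ H}

theorem nd_subgroupOf : nd (H.subgroupOf G) = ndIn G H := by
  refine Nat.card_congr
    { toFun := fun x => ⟨x.1, x.1.2, fun g hg h => x.2 ⟨g, hg⟩ h⟩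
      invFun := fun x => ⟨⟨x.1, x.2.1⟩, fun g h => x.2.2 g g.2 h⟩
      left_inv := fun _ => rfl
      right_inv := fun _ => rfl }

theorem ndV_eq {F V : Type*} [Field F] [AddCommGroup V] [Module F V] (G H : Subgroup (V ≃ₗ[F] V)) :
    ndV G H = nd (H.subgroupOf G) := (nd_subgroupOf G H).symm

variable {G H}

/-- **At most `2 ndIn G H` elements of `G` have their centraliser in no conjugate of `H`.** -/
theorem card_noncent_le [Finite G] :
    Nat.card {x : Γ // x ∈ G ∧ ¬ ∃ g ∈ G, ∀ c ∈ G, c * x = x * c → g * c * g⁻¹ ∈ H} ≤ 2 * ndIn G H := by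
  rw [← nd_subgroupOf]
  refine le_trans ?_ card_bad_le
  refine Nat.card_le_card_of_injective (fun x : {x : Γ // x ∈ G ∧ ¬ ∃ g ∈ G, ∀ c ∈ G, c * x = x * c → g * c * g⁻¹ ∈ H}
    => (⟨⟨x.1, x.2.1⟩, fun h => ?_⟩ : {g : G // fp (H.subgroupOf G) g ≠ 1})) fun a b hab => ?_
  · obtain ⟨y, hy⟩ := exists_of_fp_one h
    refine x.2.2 ⟨(y : Γ)⁻¹, G.inv_mem y.2, fun c hc hcx => ?_⟩
    have h1 := hy ⟨c, hc⟩ (Subtype.ext hcx)
    rw [inv_inv]
    exact h1
  · exact Subtype.ext (congrArg (fun z : {g : G // fp (H.subgroupOf G) g ≠ 1} => (z.1 : Γ)) hab)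

variable {M K₀ : Subgroup Γ} {E : Set Γ}

/-- **Conjugates of a TI-set**, in an ambient group. -/
theorem card_union_in [Finite G] (hMG : M ≤ G) (hEG : E ⊆ G) (hTI : ∀ g ∈ G, ∀ x ∈ E, g * x * g⁻¹ ∈ E → g ∈ M) :
    Nat.card G * Nat.card E ≤ Nat.card {y : Γ // ∃ g ∈ G, ∃ x ∈ E, y = g * x * g⁻¹} * Nat.card M := by
  have h := card_union (M := M.subgroupOf G) (E := {x : G | (x : Γ) ∈ E}) fun g x hx h => hTI g g.2 x hx h
  have h1 : Nat.card {x : G | (x : Γ) ∈ E} = Nat.card E :=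
    Nat.card_congr
      { toFun := fun x => ⟨x.1, x.2⟩
        invFun := fun x => ⟨⟨x.1, hEG x.2⟩, x.2⟩
        left_inv := fun _ => rfl
        right_inv := fun _ => rfl }
  have h2 : Nat.card {y : G // ∃ g, ∃ x ∈ {x : G | (x : Γ) ∈ E}, y = g * x * g⁻¹} =
      Nat.card {y : Γ // ∃ g ∈ G, ∃ x ∈ E, y = g * x * g⁻¹} := by
    refine Nat.card_congr
      { toFun := fun y => ⟨y.1, by
          obtain ⟨g, x, hx, h⟩ := y.2
          exact ⟨g, g.2, x, hx, by rw [h]; rfl⟩⟩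
        invFun := fun y => ⟨⟨y.1, by
          obtain ⟨g, hg, x, hx, h⟩ := y.2
          rw [h]
          exact G.mul_mem (G.mul_mem hg (hEG hx)) (G.inv_mem hg)⟩, by
          obtain ⟨g, hg, x, hx, h⟩ := y.2
          exact ⟨⟨g, hg⟩, ⟨x, hEG hx⟩, hx, Subtype.ext h⟩⟩
        left_inv := fun _ => rfl
        right_inv := fun _ => rfl }
  have h3 : Nat.card (M.subgroupOf G) = Nat.card M := Nat.card_congr (Subgroup.subgroupOfEquivOfLe hMG).toEquiv
  rw [h1, h2, h3] at h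
  exact h

/-- **The fixed point trick in an ambient group.** -/
theorem trick_in [Finite G] {c ε : ℝ} (hε : 0 < ε) (hMG : M ≤ G) (hKM : K₀ ≤ M) (hEM : E ⊆ M)
    (hEK : ∀ y ∈ E, ∀ k ∈ K₀, y * k ∈ E) (hTI : ∀ g ∈ G, ∀ x ∈ E, g * x * g⁻¹ ∈ E → g ∈ M)
    (hz : ∀ y ∈ E, ∃ z, ∃ k ∈ K₀, (∀ l ∈ K₀, z * l = l * z) ∧ y = z * k)
    (hcard : c * (Nat.card M : ℝ) ≤ Nat.card E) (hRB : RB ε K₀)
    (hH : 4 * (ndIn G H : ℝ) < c * min 1 ε * Nat.card G) : ∃ g ∈ G, ∀ k ∈ K₀, g * k * g⁻¹ ∈ H := by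
  have hKG : K₀ ≤ G := hKM.trans hMG
  have h1 : Nat.card {x : G | (x : Γ) ∈ E} = Nat.card E :=
    Nat.card_congr
      { toFun := fun x => ⟨x.1, x.2⟩
        invFun := fun x => ⟨⟨x.1, hMG (hEM x.2)⟩, x.2⟩
        left_inv := fun _ => rfl
        right_inv := fun _ => rfl }
  have h3 : Nat.card (M.subgroupOf G) = Nat.card M := Nat.card_congr (Subgroup.subgroupOfEquivOfLe hMG).toEquiv
  have hfin : Finite K₀ := Finite.of_injective (Subgroup.inclusion hKG) (Subgroup.inclusion_injective hKG)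
  obtain ⟨g, hg⟩ := trick' (G := G) (M := M.subgroupOf G) (K₀ := K₀.subgroupOf G) (E := {x : G | (x : Γ) ∈ E})
    (c := c) hε (fun y hy k hk => hEK y hy k hk) (fun g x hx h => hTI g g.2 x hx h)
    (fun y hy => by
      obtain ⟨z, k, hk, hzk, hyz⟩ := hz y hy
      have hzG : z ∈ G := by
        have h4 : z = y * k⁻¹ := by rw [hyz, mul_inv_cancel_right]
        rw [h4]
        exact G.mul_mem y.2 (G.inv_mem (hKG hk))
      exact ⟨⟨z, hzG⟩, ⟨k, hKG hk⟩, hk, fun l hl => Subtype.ext (hzk l hl), Subtype.ext hyz⟩)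
    (by rw [h1, h3]; exact hcard) (RB.congr (Subgroup.subgroupOfEquivOfLe hKG).symm hRB) (H.subgroupOf G)
    (by rw [nd_subgroupOf]; exact hH)
  exact ⟨g, g.2, fun k hk => hg ⟨k, hKG hk⟩ hk⟩

end Amb

section Lin

variable {F V : Type*} [Field F] [AddCommGroup V] [Module F V]

/-- **The fixed point trick for linear groups.** -/
theorem trickV {G H M K₀ : Subgroup (V ≃ₗ[F] V)} [Finite G] {E : Set (V ≃ₗ[F] V)} {c ε : ℝ} (hε : 0 < ε) (hMG : M ≤ G)
    (hKM : K₀ ≤ M) (hEM : E ⊆ M) (hEK : ∀ y ∈ E, ∀ k ∈ K₀, y * k ∈ E)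
    (hTI : ∀ g ∈ G, ∀ x ∈ E, g * x * g⁻¹ ∈ E → g ∈ M)
    (hz : ∀ y ∈ E, ∃ z, ∃ k ∈ K₀, (∀ l ∈ K₀, z * l = l * z) ∧ y = z * k)
    (hcard : c * (Nat.card M : ℝ) ≤ Nat.card E) (hRB : RB ε K₀)
    (hH : 4 * (ndV G H : ℝ) < c * min 1 ε * Nat.card G) : ∃ g ∈ G, ∀ k ∈ K₀, g * k * g⁻¹ ∈ H :=
  trick_in hε hMG hKM hEM hEK hTI hz hcard hRB hH

/-- at most `2 ndV G H` elements of `G` have their centraliser in no conjugate of `H` -/
theorem card_noncentV_le {G H : Subgroup (V ≃ₗ[F] V)} [Finite G] :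
    Nat.card {x : V ≃ₗ[F] V // x ∈ G ∧ ¬ ∃ g ∈ G, ∀ c ∈ G, c * x = x * c → g * c * g⁻¹ ∈ H} ≤ 2 * ndV G H :=
  card_noncent_le

end Lin

end Cfsg.Agent.H358.Bs
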