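import Cfsg.Agent.H358.Bs.BridgeSL
import Cfsg.Agent.H548.BS.Main

/-!
# S5733: the bases `S40a`, `S40s` from the rows of bounded rank (helper358)
-/

set_option autoImplicit false

namespace Cfsg.Agent.H358.Bs

open Module Cfsg Cfsg.Agent.H851.Dg Cfsg.Agent.H847.Bs Cfsg.Agent.OrdDiv Cfsg.Agent.H436
open Cfsg.Agent.H548.BS

/-- BS40a -/
theorem s40a (h : BdRow) : S40a := by
  obtain ⟨c, hc, h⟩ := h 3
  refine ⟨c, hc, ?_⟩
  intro F W _ _ _ _ _ hW
  have := Fintype.ofFinite F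
  refine rb_slV_of_psl hW le_rfl ?_
  have : Finite (Matrix.ProjectiveSpecialLinearGroup (Fin 3) F) :=
    Finite.of_surjective _ (QuotientGroup.mk'_surjective (Subgroup.center (Matrix.SpecialLinearGroup (Fin 3) F)))
  refine h (.psl 3 (Fintype.card F)) _ ?_ ⟨trivial, le_refl 3⟩
  exact .mk' ⟨F, inferInstance, inferInstance, rfl, ⟨MulEquiv.refl _⟩⟩
    ⟨by norm_num, fun h => absurd h (by norm_num), Fintype.isPrimePow_card_of_field⟩ (psl_eq (by norm_num))

/-- BS40a' -/
theorem s40s (h : BdRow) : S40s := by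
  obtain ⟨c, hc, h⟩ := h 4
  refine ⟨min c (1 / (2 ^ 16 : ℕ)), lt_min hc (by positivity), ?_⟩
  intro F W _ _ _ _ _ Φ hΦ hW
  have := Fintype.ofFinite F
  have : Finite W := Module.finite_of_finite F
  by_cases hF : 3 ≤ Fintype.card F
  · refine RB.mono ?_ (min_le_left _ _)
    refine rb_iso_of_psp (m := 2) hΦ hW (Or.inr ⟨rfl, hF⟩) ?_
    have : Finite (PSp 2 F) :=
      Finite.of_surjective _ (QuotientGroup.mk'_surjective (Subgroup.center (Matrix.symplecticGroup (Fin 2) F)))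
    refine h (.psp 2 (Fintype.card F)) _ ?_ ⟨trivial, le_refl 4⟩
    exact .mk' ⟨F, inferInstance, inferInstance, rfl, ⟨MulEquiv.refl _⟩⟩
      ⟨le_rfl, fun _ => hF, Fintype.isPrimePow_card_of_field⟩ (psp_eq le_rfl)
  · refine RB.mono ?_ (min_le_right _ _)
    refine RB.of_card_le ?_
    have h1 : 1 < Fintype.card F := Fintype.one_lt_card
    have hF2 : Fintype.card F = 2 := by omega
    have : Finite (W ≃ₗ[F] W) := Finite.of_injective (fun g : W ≃ₗ[F] W => (g : W → W)) DFunLike.coe_injective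
    have h2 : Nat.card Φ.Iso ≤ Nat.card (W ≃ₗ[F] W) := Subgroup.card_le_card_group Φ.Iso
    have h3 : Nat.card (W ≃ₗ[F] W) ≤ Nat.card (W →ₗ[F] W) :=
      Nat.card_le_card_of_injective (fun g : W ≃ₗ[F] W => (g : W →ₗ[F] W)) LinearEquiv.toLinearMap_injective
    have h4 : Nat.card (W →ₗ[F] W) = 2 ^ 16 := by
      rw [Module.natCard_eq_pow_finrank (K := F), Module.finrank_linearMap, hW, Nat.card_eq_fintype_card, hF2]
    omega

end Cfsg.Agent.H358.Bs
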