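import Cfsg.Agent.H847.Bs.Defs2

/-!
# BS01 (S5733): the fixed point trick (helper358)

`G` a finite group, `K` a subgroup, `fp K g` the number of fixed points of `g` on `G ⧸ K`.

* `fp_eq_zero_iff`, `fp_conj`, `sum_fp` (Burnside), `card_bad_le`, `sum_bad`;
* `exists_of_fp_one` : `fp K g = 1` implies that the centraliser of `g` is in a conjugate of `K`;
* `sum_union`, `card_union` : the union of the conjugates of a TI-set `E` with normaliser `M`;
* `trick` : the trick; `trick_in`, `trickV` : the same inside an ambient group.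
-/

set_option autoImplicit false

namespace Cfsg.Agent.H358.Bs

open Cfsg.Agent.H847.Bs
open Cfsg.Agent.H851.Dg (nd nd_anti one_le_nd)
open scoped Classical

section Basic

variable {G : Type*} [Group G] {K : Subgroup G}

theorem smul_mk_eq_iff {g a : G} : g • (QuotientGroup.mk a : G ⧸ K) = QuotientGroup.mk a ↔ a⁻¹ * g * a ∈ K := by
  rw [MulAction.Quotient.smul_mk, smul_eq_mul, eq_comm, QuotientGroup.eq, mul_assoc]

theorem fp_eq_zero_iff [Finite G] {g : G} : fp K g = 0 ↔ ∀ x : G, x * g * x⁻¹ ∉ K := by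
  unfold fp
  rw [Finite.card_eq_zero_iff]
  constructor
  · intro h x hx
    refine h.false ⟨QuotientGroup.mk x⁻¹, smul_mk_eq_iff.2 ?_⟩
    rwa [inv_inv]
  · intro h
    refine ⟨fun ⟨y, hy⟩ => ?_⟩
    induction y using QuotientGroup.induction_on with
    | H a =>
      refine h a⁻¹ ?_
      rw [inv_inv]
      exact smul_mk_eq_iff.1 hy

theorem nd_eq [Finite G] : nd K = Nat.card {g : G // fp K g = 0} :=
  Nat.card_congr (Equiv.subtypeEquivRight fun _ => fp_eq_zero_iff.symm)

theorem fp_conj (g x : G) : fp K (g * x * g⁻¹) = fp K x := by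
  unfold fp
  refine Nat.card_congr ((MulAction.toPerm g⁻¹ : Equiv.Perm (G ⧸ K)).subtypeEquiv fun y => ?_)
  show (g * x * g⁻¹) • y = y ↔ x • g⁻¹ • y = g⁻¹ • y
  rw [mul_smul, mul_smul, ← smul_eq_iff_eq_inv_smul]

/-- Burnside for the transitive action on `G ⧸ K` -/
theorem sum_fp [Fintype G] : ∑ g : G, fp K g = Nat.card G := by
  have h := MulAction.sum_card_fixedBy_eq_card_orbits_mul_card_group G (G ⧸ K)
  have h1 : Fintype.card (Quotient (MulAction.orbitRel G (G ⧸ K))) = 1 := by
    rw [Fintype.card_eq_one_iff]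
    refine ⟨Quotient.mk'' (QuotientGroup.mk 1), fun y => ?_⟩
    induction y using Quotient.inductionOn' with
    | h a => exact Quotient.sound' (MulAction.exists_smul_eq G _ a |>.elim fun g hg => ⟨g, hg⟩)
  rw [h1, one_mul] at h
  rw [Nat.card_eq_fintype_card, ← h]
  refine Finset.sum_congr rfl fun g _ => ?_
  rw [fp, Nat.card_eq_fintype_card]
  exact Fintype.card_congr (Equiv.refl _)

/-- the sum of `fp` over the bad elements is the number of the bad elements -/
theorem sum_bad [Fintype G] :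
    ∑ g ∈ Finset.univ.filter (fun g : G => fp K g ≠ 1), fp K g = (Finset.univ.filter fun g : G => fp K g ≠ 1).card := by
  have h1 := Finset.sum_filter_add_sum_filter_not Finset.univ (fun g : G => fp K g ≠ 1) (fp K)
  have h2 := Finset.card_filter_add_card_filter_not (s := (Finset.univ : Finset G)) (fun g : G => fp K g ≠ 1)
  have h3 : ∑ g ∈ Finset.univ.filter (fun g : G => ¬ fp K g ≠ 1), fp K g =
      (Finset.univ.filter fun g : G => ¬ fp K g ≠ 1).card := by
    rw [Finset.card_eq_sum_ones]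
    refine Finset.sum_congr rfl fun g hg => ?_
    simpa using hg
  rw [sum_fp, Nat.card_eq_fintype_card, h3] at h1
  rw [Finset.card_univ] at h2
  omega

theorem card_zero [Fintype G] : (Finset.univ.filter fun g : G => fp K g = 0).card = nd K := by
  rw [nd_eq, Nat.card_eq_fintype_card, Fintype.card_subtype]

/-- **At most `2 nd K` elements have not exactly one fixed point.** -/
theorem card_bad_le' [Fintype G] : (Finset.univ.filter fun g : G => fp K g ≠ 1).card ≤ 2 * nd K := by
  -- `Σ_{fp ≥ 2} (fp - 1) = nd K`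
  set B := Finset.univ.filter fun g : G => fp K g ≠ 1 with hB
  have h1 : ∑ g ∈ B, fp K g = B.card := sum_bad
  have h2 := Finset.sum_filter_add_sum_filter_not B (fun g : G => fp K g = 0) (fp K)
  have h3 := Finset.card_filter_add_card_filter_not (s := B) (fun g : G => fp K g = 0)
  have h4 : ∑ g ∈ B.filter (fun g : G => fp K g = 0), fp K g = 0 :=
    Finset.sum_eq_zero fun g hg => (Finset.mem_filter.1 hg).2
  have h5 : 2 * (B.filter fun g : G => ¬ fp K g = 0).card ≤ ∑ g ∈ B.filter (fun g : G => ¬ fp K g = 0), fp K g := by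
    rw [mul_comm, ← smul_eq_mul]
    refine Finset.card_nsmul_le_sum _ _ _ fun g hg => ?_
    rw [hB, Finset.mem_filter, Finset.mem_filter] at hg
    have := hg.1.2
    have := hg.2
    omega
  have h6 : (B.filter fun g : G => fp K g = 0).card ≤ nd K := by
    rw [← card_zero]
    refine Finset.card_le_card fun g hg => ?_
    rw [Finset.mem_filter] at hg ⊢
    exact ⟨Finset.mem_univ _, hg.2⟩
  omega

theorem card_bad_le [Finite G] : Nat.card {g : G // fp K g ≠ 1} ≤ 2 * nd K := by
  have := Fintype.ofFinite G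
  rw [Nat.card_eq_fintype_card, Fintype.card_subtype]
  exact card_bad_le'

/-- a unique fixed point is fixed by the centraliser -/
theorem smul_eq_of_fp_one {g c : G} (h : fp K g = 1) (hc : c * g = g * c) {y : G ⧸ K} (hy : g • y = y) :
    c • y = y := by
  have h1 : Subsingleton {x : G ⧸ K // g • x = x} := (Nat.card_eq_one_iff_unique.1 h).1
  have h2 : g • (c • y) = c • y := by rw [← mul_smul, ← hc, mul_smul, hy]
  exact congrArg Subtype.val (Subsingleton.elim (⟨c • y, h2⟩ : {x : G ⧸ K // g • x = x}) ⟨y, hy⟩)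

theorem exists_fixed_of_fp_one {g : G} (h : fp K g = 1) : ∃ y : G ⧸ K, g • y = y := by
  obtain ⟨y⟩ := (Nat.card_eq_one_iff_unique.1 h).2
  exact ⟨y.1, y.2⟩

/-- **An element with exactly one fixed point has its centraliser in a conjugate of `K`.** -/
theorem exists_of_fp_one {g : G} (h : fp K g = 1) : ∃ x : G, ∀ c : G, c * g = g * c → x⁻¹ * c * x ∈ K := by
  obtain ⟨y, hy⟩ := exists_fixed_of_fp_one h
  induction y using QuotientGroup.induction_on with
  | H a => exact ⟨a, fun c hc => smul_mk_eq_iff.1 (smul_eq_of_fp_one h hc hy)⟩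

end Basic

section Union

variable {G : Type*} [Group G] {M : Subgroup G} {E : Set G}

/-- **Conjugates of a TI-set**, with weights. -/
theorem sum_union [Fintype G] (hTI : ∀ g, ∀ x ∈ E, g * x * g⁻¹ ∈ E → g ∈ M) (F : G → ℕ)
    (hF : ∀ g x, F (g * x * g⁻¹) = F x) :
    Nat.card G * ∑ x ∈ Finset.univ.filter (· ∈ E), F x ≤
      Nat.card M * ∑ y ∈ Finset.univ.filter (fun y => ∃ g, ∃ x ∈ E, y = g * x * g⁻¹), F y := by
  set A := Finset.univ.filter (· ∈ E) with hA
  set U := Finset.univ.filter (fun y : G => ∃ g, ∃ x ∈ E, y = g * x * g⁻¹) with hU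
  -- pairs
  have h1 : Nat.card G * ∑ x ∈ A, F x = ∑ a ∈ (Finset.univ : Finset G) ×ˢ A, F (a.1 * a.2 * a.1⁻¹) := by
    rw [Finset.sum_product, Nat.card_eq_fintype_card, ← Finset.card_univ, ← smul_eq_mul, ← Finset.sum_const]
    exact Finset.sum_congr rfl fun g _ => Finset.sum_congr rfl fun x _ => (hF g x).symm
  have h2 : ∑ a ∈ (Finset.univ : Finset G) ×ˢ A, F (a.1 * a.2 * a.1⁻¹) =
      ∑ y ∈ U, ∑ a ∈ ((Finset.univ : Finset G) ×ˢ A).filter (fun a => a.1 * a.2 * a.1⁻¹ = y),
        F (a.1 * a.2 * a.1⁻¹) := by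
    refine (Finset.sum_fiberwise_of_maps_to (fun a ha => ?_) _).symm
    rw [Finset.mem_product, hA, Finset.mem_filter] at ha
    rw [hU, Finset.mem_filter]
    exact ⟨Finset.mem_univ _, a.1, a.2, ha.2.2, rfl⟩
  rw [h1, h2, Finset.mul_sum]
  refine Finset.sum_le_sum fun y _ => ?_
  have h3 : ∑ a ∈ ((Finset.univ : Finset G) ×ˢ A).filter (fun a => a.1 * a.2 * a.1⁻¹ = y), F (a.1 * a.2 * a.1⁻¹) =
      (((Finset.univ : Finset G) ×ˢ A).filter (fun a => a.1 * a.2 * a.1⁻¹ = y)).card * F y := by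
    rw [← smul_eq_mul, ← Finset.sum_const]
    exact Finset.sum_congr rfl fun a ha => by rw [(Finset.mem_filter.1 ha).2]
  rw [h3]
  refine Nat.mul_le_mul_right _ ?_
  -- the fibre
  rcases (((Finset.univ : Finset G) ×ˢ A).filter (fun a => a.1 * a.2 * a.1⁻¹ = y)).eq_empty_or_nonempty with h0 | ⟨b, hb⟩
  · rw [h0, Finset.card_empty]
    exact Nat.zero_le _
  · rw [Finset.mem_filter, Finset.mem_product, hA, Finset.mem_filter] at hb
    have h4 : Nat.card M = (Finset.univ.filter (· ∈ M)).card := by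
      rw [Nat.card_eq_fintype_card, Fintype.card_subtype]
    rw [h4]
    refine Finset.card_le_card_of_injOn (fun a => b.1⁻¹ * a.1) (fun a ha => ?_) (fun a ha a' ha' haa => ?_)
    · rw [Finset.mem_coe, Finset.mem_filter, Finset.mem_product, hA, Finset.mem_filter] at ha
      rw [Finset.mem_coe, Finset.mem_filter]
      refine ⟨Finset.mem_univ _, hTI _ a.2 ha.1.2.2 ?_⟩
      have h5 : b.1⁻¹ * a.1 * a.2 * (b.1⁻¹ * a.1)⁻¹ = b.1⁻¹ * (a.1 * a.2 * a.1⁻¹) * b.1 := by group
      rw [h5, ha.2, ← hb.2]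
      have h6 : b.1⁻¹ * (b.1 * b.2 * b.1⁻¹) * b.1 = b.2 := by group
      rw [h6]
      exact hb.1.2.2
    · rw [Finset.mem_coe, Finset.mem_filter] at ha ha'
      have h5 : a.1 = a'.1 := mul_left_cancel haa
      have h6 : a.1 * a.2 * a.1⁻¹ = a'.1 * a'.2 * a'.1⁻¹ := ha.2.trans ha'.2.symm
      rw [h5] at h6
      exact Prod.ext h5 (mul_left_cancel (mul_right_cancel h6))

/-- **The number of conjugates of a TI-set.** -/
theorem card_union [Finite G] (hTI : ∀ g, ∀ x ∈ E, g * x * g⁻¹ ∈ E → g ∈ M) :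
    Nat.card G * Nat.card E ≤ Nat.card {y : G // ∃ g, ∃ x ∈ E, y = g * x * g⁻¹} * Nat.card M := by
  have := Fintype.ofFinite G
  have h := sum_union hTI (fun _ => 1) fun _ _ => rfl
  rw [← Finset.card_eq_sum_ones, ← Finset.card_eq_sum_ones] at h
  have h1 : Nat.card E = (Finset.univ.filter (· ∈ E)).card := by
    rw [Nat.card_eq_fintype_card, Fintype.card_subtype]
  have h2 : Nat.card {y : G // ∃ g, ∃ x ∈ E, y = g * x * g⁻¹} =
      (Finset.univ.filter fun y : G => ∃ g, ∃ x ∈ E, y = g * x * g⁻¹).card := by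
    rw [Nat.card_eq_fintype_card, Fintype.card_subtype]
  rw [h1, h2, mul_comm _ (Nat.card M)]
  exact h

theorem sum_union_le [Fintype G] (hTI : ∀ g, ∀ x ∈ E, g * x * g⁻¹ ∈ E → g ∈ M) (F : G → ℕ)
    (hF : ∀ g x, F (g * x * g⁻¹) = F x) :
    Nat.card G * ∑ x ∈ Finset.univ.filter (· ∈ E), F x ≤ Nat.card M * ∑ y, F y :=
  (sum_union hTI F hF).trans (Nat.mul_le_mul_left _ (Finset.sum_le_sum_of_subset (Finset.filter_subset _ _)))

end Union

end Cfsg.Agent.H358.Bs
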